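/-
The common neighbours of a non-commuting pair at type M(23) as a chart of a seven-dimensional space.
-/
import Cfsg.Agent.H86.Fischer.Tuple23
import Cfsg.Agent.H20.FischerO3.Base

set_option autoImplicit false
set_option linter.unusedSectionVars false

namespace H86.Fischer

open Cfsg H99 H43 H20.FischerO3

/-- The sum of seven squares. -/
noncomputable def squares7 : QuadraticForm (ZMod 3) V7 :=
  QuadraticMap.weightedSumSquares (ZMod 3) (fun _ : Fin 7 => (1 : ZMod 3))

theorem squares7_apply (x : V7) : squares7 x = dot7 x x := by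
  rw [squares7, QuadraticMap.weightedSumSquares_apply, dot7_eq]
  simp

theorem polB_squares7 (x y : V7) : polB squares7 x y = 2 * dot7 x y := by
  rw [polB_apply, QuadraticMap.polar, squares7_apply, squares7_apply, squares7_apply]
  simp only [dot7, Pi.add_apply]
  ring

theorem squares7_nondegenerate : (polB squares7).Nondegenerate := by
  have key : ∀ x : V7, (∀ y, polB squares7 x y = 0) → x = 0 := by
    intro x h
    funext i
    have := h (unit7 i)
    rw [polB_squares7, dot7_unit] at this
    exact (mul_eq_zero.1 this).resolve_left (by decide)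
  exact ⟨key, fun x h => key x fun y => by rw [polB_comm]; exact h y⟩

theorem dot7_comm' (x y : V7) : dot7 x y = dot7 y x := by simp only [dot7]; ring

theorem dot7_add_smul (x y w : V7) (t : ZMod 3) : dot7 (x + t • y) w = dot7 x w + t * dot7 y w := by
  simp only [dot7, Pi.add_apply, Pi.smul_apply, smul_eq_mul]; ring

theorem dot7_add_smul_right (x y w : V7) (t : ZMod 3) : dot7 w (x + t • y) = dot7 w x + t * dot7 w y := by
  rw [dot7_comm', dot7_add_smul, dot7_comm' x, dot7_comm' y]

theorem rf_involutive {u : V7} (hu : dot7 u u = 1) (x : V7) : rf u (rf u x) = x := by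
  rw [rf_eq, rf_eq, dot7_add_smul, hu, mul_one]
  funext i
  simp only [Pi.add_apply, Pi.smul_apply, smul_eq_mul]
  generalize x i = a
  generalize dot7 x u = b
  generalize u i = e
  revert a b e
  decide

theorem rf_adjoint (u x y : V7) : dot7 (rf u x) y = dot7 x (rf u y) := by
  rw [rf_eq, rf_eq, dot7_add_smul, dot7_add_smul_right, dot7_comm' u y]
  ring

theorem rf_norm {u : V7} (hu : dot7 u u = 1) (v : V7) : dot7 (rf u v) (rf u v) = dot7 v v := by
  rw [rf_adjoint, rf_involutive hu]

theorem rf_add_smul (u x y : V7) (t : ZMod 3) : rf u (x + t • y) = rf u x + t • rf u y := by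
  rw [rf_eq, rf_eq, rf_eq, dot7_add_smul]
  module

/-- The reflection of a reflected vector. -/
theorem rf_conj {u : V7} (hu : dot7 u u = 1) (v x : V7) :
    rf (rf u v) x = rf u (rf v (rf u x)) := by
  rw [rf_eq v, rf_add_smul, rf_involutive hu, rf_adjoint, rf_eq (rf u v) x]

theorem refl_squares7 {u : V7} (hu : dot7 u u = 1) (v : V7) :
    (H43.refl squares7 u).1 v = rf u v := by
  rw [H43.refl_apply, squares7_apply, hu, polB_squares7, inv_one, one_mul, rf_eq, sub_eq_add_neg,
    ← neg_smul, show -(2 * dot7 v u) = dot7 v u from (by decide : ∀ t : ZMod 3, -(2 * t) = t) _]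

variable {G : Type*} [Group G] [Finite G]

/-- A frame model is a chart. -/
theorem FrameModel.exists_chart {D P : Set G} (M : FrameModel P) (hD : IsThreeTranspositionSet D)
    (hP : ∀ y ∈ P, y ∈ D) :
    ∃ φ : G → V7, Chart squares7 1 P φ := by
  classical
  let φ : G → V7 := fun y => if hy : y ∈ P then (M.surj y hy).choose else 0
  have hφ : ∀ y ∈ P, dot7 (φ y) (φ y) = 1 ∧ M.σ (φ y) = y := fun y hy => by
    simp only [φ, dif_pos hy]; exact (M.surj y hy).choose_spec
  have hpm : ∀ u v, dot7 u u = 1 → PM u v → M.σ u = M.σ v := by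
    rintro u v hu (rfl | rfl)
    · rfl
    · exact (M.σ_neg hD hP hu).symm
  have hinj : ∀ x ∈ P, ∀ y ∈ P, PM (φ x) (φ y) → x = y := fun x hx y hy h => by
    rw [← (hφ x hx).2, ← (hφ y hy).2]; exact hpm _ _ (hφ x hx).1 h
  refine ⟨φ, fun x hx => by rw [squares7_apply]; exact (hφ x hx).1, hinj, fun v hv => ?_,
    fun x hx y hy hne => ?_, fun x hx y hy => ?_⟩
  · rw [squares7_apply] at hv
    exact ⟨M.σ v, M.mem v hv,
      M.inj v _ hv (hφ _ (M.mem v hv)).1 (hφ _ (M.mem v hv)).2.symm⟩
  · obtain ⟨hu, eu⟩ := hφ x hx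
    obtain ⟨hv, ev⟩ := hφ y hy
    rw [polB_squares7, mul_eq_zero, or_iff_right (by decide : (2 : ZMod 3) ≠ 0)]
    constructor
    · intro hc
      by_contra hn
      exact M.noncomm _ _ hu hv hn (fun e => hne (hinj x hx y hy (Or.inl e)))
        (fun e => hne (hinj x hx y hy (Or.inr e))) (by rwa [eu, ev])
    · intro h0
      have := M.comm _ _ hu hv h0
      rwa [eu, ev] at this
  · obtain ⟨hu, eu⟩ := hφ x hx
    obtain ⟨hv, ev⟩ := hφ y hy
    set u := φ x
    set v := φ y
    set w := rf u v with hw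
    have hwn : dot7 w w = 1 := by rw [hw, rf_norm hu, hv]
    have hword := M.word [u, v, u, w] (by
      intro t ht
      simp only [List.mem_cons, List.not_mem_nil, or_false] at ht
      rcases ht with rfl | rfl | rfl | rfl <;> assumption) 1 (mul_one 1) (fun i => by
      rw [one_smul]
      show rf u (rf v (rf u (rf w (unit7 i)))) = _
      rw [← rf_conj hu, ← hw, rf_involutive hwn])
    simp only [List.map_cons, List.map_nil, List.prod_cons, List.prod_nil, mul_one] at hword
    have e : x * y * x = M.σ w := by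
      have h1 : M.σ w * M.σ w = 1 := tt_mul_self hD (hP _ (M.mem w hwn))
      rw [eu, ev, ← mul_assoc, ← mul_assoc] at hword
      exact (mul_eq_one_iff_eq_inv.1 hword).trans (inv_eq_of_mul_eq_one_right h1)
    rw [e]
    refine ⟨M.mem w hwn, ?_⟩
    rw [refl_squares7 hu]
    exact M.inj w _ hwn (hφ _ (M.mem w hwn)).1 (hφ _ (M.mem w hwn)).2.symm

/-- The common neighbours of a non-commuting pair at type M(23). -/
theorem exists_sevenChart {T : Set G} (hT : IsThreeTranspositionGroup T)
    (hp : IsPrimitiveUnderConj T) (h23 : IsOfTypeM23 G T) {p q : G} (hpT : p ∈ T) (hqT : q ∈ T)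
    (hpq : ¬ Commute p q) :
    ∃ (Q : QuadraticForm (ZMod 3) (Fin 7 → ZMod 3)) (c : ZMod 3) (φ : G → (Fin 7 → ZMod 3)),
      (polB Q).Nondegenerate ∧ c ≠ 0 ∧ Chart Q c (perp T p ∩ perp T q) φ := by
  obtain ⟨M⟩ := m23_frameModel hT hp h23 hpT hqT hpq
  obtain ⟨φ, hφ⟩ := M.exists_chart hT.1 fun y hy => hy.1.1
  exact ⟨squares7, 1, φ, squares7_nondegenerate, one_ne_zero, hφ⟩

end H86.Fischer
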